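import Groth.Agent.L22.Completion.Basic
import Groth.Agent.L25.Translate
import Mathlib.AlgebraicGeometry.Morphisms.SchemeTheoreticallyDominant
import Mathlib.CategoryTheory.Monoidal.Grp
import Mathlib.CategoryTheory.Monoidal.Cartesian.Grp
import Mathlib.CategoryTheory.Monoidal.Cartesian.Over

/-!
The scheme-theoretic image of a quasi-compact homomorphism of group schemes over a field is a closed
subgroup scheme.
-/

universe u

open CategoryTheory CategoryTheory.Limits MonoidalCategory CartesianMonoidalCategory MonObj AlgebraicGeometry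

namespace Groth.L15.SubGrp

/-- A monomorphism whose points are closed under the group operations is a subgroup object. -/
theorem exists_grpObj_of_mono {C : Type*} [Category C] [CartesianMonoidalCategory C] {H G : C} [GrpObj G]
    (i : H ⟶ G) [Mono i] (one : 𝟙_ C ⟶ H) (hone : one ≫ i = 1)
    (mul : H ⊗ H ⟶ H) (hmul : mul ≫ i = (fst H H ≫ i) * (snd H H ≫ i))
    (inv : H ⟶ H) (hinv : inv ≫ i = i⁻¹) :
    ∃ _ : GrpObj H, IsMonHom i := by
  have hone' : ∀ {X : C} (f : X ⟶ 𝟙_ C), f ≫ one ≫ i = 1 := fun f => by rw [hone, MonObj.comp_one]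
  have hc : ∀ {X : C} (a b : X ⟶ H), lift a b ≫ mul ≫ i = (a ≫ i) * (b ≫ i) := fun a b => by
    rw [hmul, MonObj.comp_mul, lift_fst_assoc, lift_snd_assoc]
  letI : GrpObj H :=
    { one := one
      mul := mul
      inv := inv
      one_mul := by
        rw [← cancel_mono i, Category.assoc, hmul, MonObj.comp_mul]
        simp [hone', leftUnitor_hom]
      mul_one := by
        rw [← cancel_mono i, Category.assoc, hmul, MonObj.comp_mul]
        simp [hone', rightUnitor_hom]
      mul_assoc := by
        rw [← cancel_mono i]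
        simp only [Category.assoc, hmul, MonObj.comp_mul]
        simp only [← Category.assoc]
        simp only [whiskerRight_fst, whiskerRight_snd, whiskerLeft_fst, whiskerLeft_snd,
          Category.assoc, hmul, MonObj.comp_mul]
        simp [_root_.mul_assoc]
      left_inv := by
        rw [← cancel_mono i, Category.assoc, hc, Category.assoc, hone', hinv, Category.id_comp,
          inv_mul_cancel]
      right_inv := by
        rw [← cancel_mono i, Category.assoc, hc, Category.assoc, hone', hinv, Category.id_comp,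
          mul_inv_cancel] }
  refine ⟨inferInstance, ⟨hone.trans (MonObj.one_eq_one G).symm, ?_⟩⟩
  show mul ≫ i = _
  rw [hmul, Hom.mul_def]
  simp

theorem isPullback_whiskerRight {S : Scheme.{u}} {A B : Over S} (f : A ⟶ B) (C : Over S) :
    IsPullback (fst A C).left (f ▷ C).left f.left (fst B C).left := by
  refine IsPullback.of_bot (v₂₁ := (snd B C).left) (v₂₂ := B.hom) (h₃₁ := C.hom) ?_ ?_ ?_
  · have e1 : (f ▷ C).left ≫ (snd B C).left = (snd A C).left := by
      rw [← Over.comp_left, whiskerRight_snd]
    rw [e1, Over.w f]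
    exact IsPullback.of_hasPullback A.hom C.hom
  · rw [← Over.comp_left, ← Over.comp_left, whiskerRight_fst]
  · exact IsPullback.of_hasPullback B.hom C.hom

theorem isPullback_whiskerLeft {S : Scheme.{u}} {A B : Over S} (f : A ⟶ B) (C : Over S) :
    IsPullback (snd C A).left (C ◁ f).left f.left (snd C B).left := by
  refine IsPullback.of_bot (v₂₁ := (fst C B).left) (v₂₂ := B.hom) (h₃₁ := C.hom) ?_ ?_ ?_
  · have e1 : (C ◁ f).left ≫ (fst C B).left = (fst C A).left := by
      rw [← Over.comp_left, whiskerLeft_fst]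
    rw [e1, Over.w f]
    exact (IsPullback.of_hasPullback C.hom A.hom).flip
  · rw [← Over.comp_left, ← Over.comp_left, whiskerLeft_snd]
  · exact (IsPullback.of_hasPullback C.hom B.hom).flip

variable {k : Type u} [Field k]

theorem exists_subgroup_image (H G : Over (Spec (CommRingCat.of k))) [GrpObj H] [GrpObj G]
    (f : H ⟶ G) [IsMonHom f] [QuasiCompact f.left] :
    ∃ (H' : Over (Spec (CommRingCat.of k))) (_ : GrpObj H') (i : H' ⟶ G) (f' : H ⟶ H'),
      IsMonHom i ∧ IsMonHom f' ∧ f' ≫ i = f ∧ IsClosedImmersion i.left ∧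
      f'.left.ker = ⊥ ∧ QuasiCompact f'.left ∧ Surjective f'.left := by
  let H' : Over (Spec (CommRingCat.of k)) := Over.mk (f.left.imageι ≫ G.hom)
  let i : H' ⟶ G := Over.homMk f.left.imageι
  let f' : H ⟶ H' := Over.homMk f.left.toImage (by
    show f.left.toImage ≫ f.left.imageι ≫ G.hom = H.hom
    rw [Scheme.Hom.toImage_imageι_assoc, Over.w])
  have hf : f' ≫ i = f := by ext; simp [f', i]
  haveI hi : IsClosedImmersion i.left := inferInstanceAs (IsClosedImmersion f.left.imageι)
  haveI : Mono i := Over.mono_of_mono_left i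
  haveI : QuasiCompact f'.left := inferInstanceAs (QuasiCompact f.left.toImage)
  haveI : IsSchemeTheoreticallyDominant f'.left :=
    Groth.L22.Completion.isSchemeTheoreticallyDominant_toImage f.left
  have hker : (i.left).ker = f.left.ker := by
    show f.left.imageι.ker = _
    exact Scheme.IdealSheafData.ker_subschemeι _
  -- factoring through the image
  have hfac : ∀ {A B : Over (Spec (CommRingCat.of k))} (d : A ⟶ B) (_ : d.left.ker = ⊥)
      (b : B ⟶ G) (e : A ⟶ H), d ≫ b = e ≫ f → ∃ b' : B ⟶ H', b' ≫ i = b := by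
    intro A B d hd b e hde
    have hle : i.left.ker ≤ b.left.ker := by
      rw [hker]
      have h1 : (e ≫ f).left.ker = b.left.ker := by
        rw [← hde, Over.comp_left, Scheme.Hom.ker_comp, hd, Scheme.IdealSheafData.map_bot]
      rw [← h1, Over.comp_left]
      exact Scheme.Hom.le_ker_comp _ _
    refine ⟨Over.homMk (IsClosedImmersion.lift i.left b.left hle) ?_, ?_⟩
    · show _ ≫ i.left ≫ G.hom = _
      rw [IsClosedImmersion.lift_fac_assoc, Over.w]
    · ext; exact IsClosedImmersion.lift_fac _ _ _
  obtain ⟨one, hone⟩ : ∃ o : 𝟙_ _ ⟶ H', o ≫ i = 1 :=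
    ⟨η[H] ≫ f', by rw [Category.assoc, hf, IsMonHom.one_hom, MonObj.one_eq_one]⟩
  obtain ⟨inv, hinv⟩ := hfac f' ‹IsSchemeTheoreticallyDominant f'.left›.ker_eq_bot (i⁻¹) (ι[H]) (by
    rw [GrpObj.comp_inv, hf]
    exact (GrpObj.inv_hom f).symm)
  obtain ⟨mul, hmul⟩ : ∃ m : H' ⊗ H' ⟶ H', m ≫ i = (fst H' H' ≫ i) * (snd H' H' ≫ i) := by
    have sq1 := isPullback_whiskerRight f' H
    have h1 : IsSchemeTheoreticallyDominant (f' ▷ H).left ∧ QuasiCompact (f' ▷ H).left := by
      haveI : Flat (fst H' H).left := by rw [Over.fst_left]; infer_instance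
      exact ⟨IsSchemeTheoreticallyDominant.of_isPullback sq1,
        MorphismProperty.of_isPullback sq1 ‹QuasiCompact f'.left›⟩
    have sq2 := isPullback_whiskerLeft f' H'
    have h2 : IsSchemeTheoreticallyDominant (H' ◁ f').left ∧ QuasiCompact (H' ◁ f').left := by
      haveI : Flat (snd H' H').left := by rw [Over.snd_left]; infer_instance
      exact ⟨IsSchemeTheoreticallyDominant.of_isPullback sq2,
        MorphismProperty.of_isPullback sq2 ‹QuasiCompact f'.left›⟩
    haveI := h1.1; haveI := h1.2; haveI := h2.1; haveI := h2.2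
    refine hfac (f' ▷ H ≫ H' ◁ f') ?_ _ μ[H] ?_
    · rw [Over.comp_left]
      exact IsSchemeTheoreticallyDominant.ker_eq_bot ((f' ▷ H).left ≫ (H' ◁ f').left)
    · rw [IsMonHom.mul_hom, MonObj.comp_mul, Hom.mul_def]
      congr 1
      ext1 <;> simp [hf]
  obtain ⟨inst, hiMon⟩ := exists_grpObj_of_mono i one hone mul hmul inv hinv
  have isMonHom_f' : IsMonHom f' := by
    refine ⟨?_, ?_⟩
    · rw [← cancel_mono i, Category.assoc, hf, IsMonHom.one_hom, IsMonHom.one_hom]
    · rw [← cancel_mono i, Category.assoc, hf, IsMonHom.mul_hom, Category.assoc, IsMonHom.mul_hom i,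
        ← Category.assoc, tensorHom_comp_tensorHom, hf]
  refine ⟨H', inst, i, f', hiMon, ?_, hf, hi, IsSchemeTheoreticallyDominant.ker_eq_bot _, inferInstance, ?_⟩
  · exact isMonHom_f'
  · haveI : IsMonHom f' := isMonHom_f'
    haveI : IsDominant f'.left := inferInstanceAs (IsDominant f.left.toImage)
    exact Groth.L25.Translate.surjective_of_denseRange f' f'.left.denseRange

end Groth.L15.SubGrp
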